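import Mathlib
import Cfsg.Agent.Lib.Blocks.Covering
import Cfsg.Agent.Lib.Blocks.PGroupSum
import Cfsg.Agent.BlockCharsA.DefectZeroVanish

/-!
# Invariant characters of a normal `p'`-subgroup under a `p`-subgroup
-/

set_option autoImplicit false
set_option linter.style.haveILetI false
set_option linter.unusedSectionVars false

namespace Cfsg.Agent.CharTheory.KernelCore

open Cfsg.Agent.Characters Cfsg.Agent.CharTheory Cfsg.Agent.Blocks
open scoped ComplexConjugate

universe u

variable {G : Type u} [Group G] [Finite G] {p : ℕ} [hp : Fact p.Prime]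

/-- The conjugation action of a subgroup on the characters of a normal subgroup. -/
@[reducible] noncomputable def conjAction (K : Subgroup G) [K.Normal] (P : Subgroup G) :
    MulAction P (Cfsg.IrrCharacter K) where
  smul u θ := conjIrr (u : G)⁻¹ θ
  one_smul θ := by
    show conjIrr ((1 : P) : G)⁻¹ θ = θ
    simp [conjIrr_one]
  mul_smul u v θ := by
    show conjIrr ((u * v : P) : G)⁻¹ θ = conjIrr (u : G)⁻¹ (conjIrr (v : G)⁻¹ θ)
    rw [conjIrr_conjIrr, Subgroup.coe_mul, mul_inv_rev]

/-- The conjugation action of a subgroup on a normal subgroup. -/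
@[reducible] def elemAction (K : Subgroup G) [K.Normal] (P : Subgroup G) : MulAction P K where
  smul u k := MulAut.conjNormal (u : G) k
  one_smul k := by
    show MulAut.conjNormal ((1 : P) : G) k = k
    simp
  mul_smul u v k := by
    show MulAut.conjNormal ((u * v : P) : G) k =
      MulAut.conjNormal (u : G) (MulAut.conjNormal (v : G) k)
    simp

theorem invariant_trivial {K : Subgroup G} [K.Normal] {P : Subgroup G} (hP : IsPGroup p P)
    (hpK : ¬ p ∣ Nat.card K) (hC : K ⊓ Subgroup.centralizer (P : Set G) = ⊥)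
    (θ : Cfsg.IrrCharacter K) (hθ : ∀ u ∈ P, conjIrr u θ = θ) : θ = trivIrr K := by
  classical
  obtain ⟨M, hM⟩ := BlockCharsA.DefectZeroVanish.exists_modular (p := p) hp.out
  haveI := Fintype.ofFinite K
  letI := elemAction K P
  have hfix : ∀ k : K, (∀ u : P, u • k = k) ↔ k = 1 := by
    intro k
    refine ⟨fun h => Subtype.ext ((Subgroup.mem_bot).1 (hC ▸ ⟨k.2, ?_⟩)), fun h u => ?_⟩
    · refine Subgroup.mem_centralizer_iff.2 fun u hu => ?_
      have h1 : u * (k : G) * u⁻¹ = (k : G) := congrArg Subtype.val (h ⟨u, hu⟩)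
      rwa [mul_inv_eq_iff_eq_mul] at h1
    · subst h
      show MulAut.conjNormal (u : G) (1 : K) = 1
      simp
  have hinv : ∀ (u : P) (k : K), (θ : K → ℂ) (u • k) = (θ : K → ℂ) k := by
    intro u k
    conv_rhs => rw [← hθ u u.2, coe_conjIrr, Clifford.conjBy_eq_comp]
    rfl
  obtain ⟨d, hd, hdn⟩ := irr_one_pos θ.2
  have hring : ∀ k : K, Cfsg.MemLocalRing M ((θ : K → ℂ) k) := fun k =>
    ring_of_isIntegral hM (char_value_isIntegral (irr_isCharacter θ) k)
  have hconj : ∀ k : K, Cfsg.MemLocalRing M (conj ((θ : K → ℂ) k)) := fun k => by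
    rw [← char_inv (irr_isCharacter θ)]; exact hring k⁻¹
  by_contra hne
  have h1 : ∑ k : K, (θ : K → ℂ) k = 0 := by
    have h := classInner_irr θ (trivIrr K)
    rw [classInner_def, if_neg hne] at h
    simpa [trivIrr_coe, Nat.card_pos.ne'] using h
  have e1 := cong_sum_fixed hM hP (fun k : K => (θ : K → ℂ) k) hring hinv {(1 : K)}
    fun k => by rw [Finset.mem_singleton, hfix]
  rw [h1, Finset.sum_singleton, hdn] at e1
  have hpd : p ∣ d := (ideal_natCast_iff hM d).1 (cong_zero_iff.1 (cong_symm hM e1))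
  have h2 : ∑ k : K, (θ : K → ℂ) k * conj ((θ : K → ℂ) k) = (Nat.card K : ℂ) := by
    have h := classInner_irr θ θ
    rw [classInner_def, if_pos rfl] at h
    rwa [inv_mul_eq_one₀ (Nat.cast_ne_zero.2 Nat.card_pos.ne'), eq_comm] at h
  have e2 := cong_sum_fixed hM hP (fun k : K => (θ : K → ℂ) k * conj ((θ : K → ℂ) k))
    (fun k => ring_mul hM (hring k) (hconj k)) (fun u k => by simp only [hinv]) {(1 : K)}
    fun k => by rw [Finset.mem_singleton, hfix]
  rw [h2, Finset.sum_singleton, hdn, Complex.conj_natCast, ← Nat.cast_mul] at e2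
  have h3 : Cfsg.MemLocalIdeal M ((d * d : ℕ) : ℂ) :=
    (ideal_natCast_iff hM _).2 (hpd.mul_right d)
  exact hpK ((ideal_natCast_iff hM _).1 ((ideal_iff_of_cong hM e2).2 h3))

theorem centralizer_eq_bot {K : Subgroup G} [K.Normal] {P : Subgroup G} (hP : IsPGroup p P)
    (h : ∀ θ : Cfsg.IrrCharacter K, (∀ u ∈ P, conjIrr u θ = θ) → θ = trivIrr K) :
    K ⊓ Subgroup.centralizer (P : Set G) = ⊥ := by
  classical
  obtain ⟨M, hM⟩ := BlockCharsA.DefectZeroVanish.exists_modular (p := p) hp.out
  rw [eq_bot_iff]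
  rintro x ⟨hxK, hxC⟩
  rw [Subgroup.mem_bot]
  by_contra hx
  haveI := Fintype.ofFinite (Cfsg.IrrCharacter K)
  letI := conjAction K P
  set k : K := ⟨x, hxK⟩
  have hsum := second_orthogonality k (1 : K)
  rw [if_neg fun hc => hx (congrArg Subtype.val (isConj_one_left.1 hc))] at hsum
  have hring : ∀ θ : Cfsg.IrrCharacter K,
      Cfsg.MemLocalRing M ((θ : K → ℂ) k * conj ((θ : K → ℂ) 1)) := fun θ => by
    rw [← char_inv (irr_isCharacter θ)]
    exact ring_mul hM (ring_of_isIntegral hM (char_value_isIntegral (irr_isCharacter θ) k))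
      (ring_of_isIntegral hM (char_value_isIntegral (irr_isCharacter θ) _))
  have hfix : ∀ θ : Cfsg.IrrCharacter K,
      θ ∈ ({trivIrr K} : Finset (Cfsg.IrrCharacter K)) ↔ ∀ u : P, u • θ = θ := by
    intro θ
    rw [Finset.mem_singleton]
    constructor
    · rintro rfl u
      exact Subtype.ext rfl
    · intro hu
      refine h θ fun u hu' => ?_
      have := hu ⟨u⁻¹, P.inv_mem hu'⟩
      change conjIrr (u⁻¹)⁻¹ θ = θ at this
      rwa [inv_inv] at this
  have e := cong_sum_fixed hM hP (fun θ : Cfsg.IrrCharacter K =>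
    (θ : K → ℂ) k * conj ((θ : K → ℂ) 1)) hring (fun u θ => by
      show (conjIrr (u : G)⁻¹ θ : K → ℂ) k * conj ((conjIrr (u : G)⁻¹ θ : K → ℂ) 1) = _
      rw [coe_conjIrr, Clifford.conjBy_at_one, Clifford.conjBy_apply]
      have hc : (u : G) * x = x * (u : G) := Subgroup.mem_centralizer_iff.1 hxC _ u.2
      congr 2
      refine congrArg (θ : K → ℂ) (Subtype.ext ?_)
      show (u : G)⁻¹ * x * ((u : G)⁻¹)⁻¹ = x
      rw [inv_inv, mul_assoc, ← hc, inv_mul_cancel_left]) _ hfix
  rw [hsum, Finset.sum_singleton, trivIrr_coe] at e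
  simp only [map_one, mul_one] at e
  exact not_cong_zero_one hM e

end Cfsg.Agent.CharTheory.KernelCore
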