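import Mathlib
import Cfsg.Agent.Lib.CharTheory.KernelCore.Invariant
import Cfsg.Agent.Lib.CharTheory.RegularSupport.Canonical
import Cfsg.Agent.Lib.CharTheory.CrossCoprime.Step
import Cfsg.Agent.Lib.Transfer.Tate
import Cfsg.Agent.Lib.Transfer.NormalPComplement
import Cfsg.Agent.Lib.Coprime.PGroup
import Cfsg.Agent.Lib.Cores.Basic
import Cfsg.Agent.Lib.Cores.Subnormal

/-!
# The kernel of the characters of degree prime to `p`
-/

set_option autoImplicit false
set_option linter.style.haveILetI false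
set_option linter.unusedSectionVars false

namespace Cfsg.Agent.CharTheory.KernelCore

open Cfsg.Agent.Characters Cfsg.Agent.CharTheory Cfsg.Agent.Blocks
open scoped ComplexConjugate commutatorElement

universe u

variable {G : Type u} [Group G] [Finite G] {p : ℕ} [hp : Fact p.Prime]

/-- The intersection of the kernels of the characters of degree prime to `p`. -/
noncomputable def kerPPrime (p : ℕ) (G : Type u) [Group G] [Finite G] : Subgroup G :=
  ⨅ χ : {χ : Cfsg.IrrCharacter G // ¬ p ∣ Cfsg.charDegree (χ : G → ℂ)},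
    charKernel (χ.1 : G → ℂ) (irr_isCharacter χ.1)

theorem mem_kerPPrime {g : G} : g ∈ kerPPrime p G ↔ ∀ χ : Cfsg.IrrCharacter G,
    ¬ p ∣ Cfsg.charDegree (χ : G → ℂ) → (χ : G → ℂ) g = (χ : G → ℂ) 1 := by
  simp only [kerPPrime, Subgroup.mem_iInf, mem_charKernel, Subtype.forall]

instance kerPPrime_normal : (kerPPrime p G).Normal :=
  Subgroup.normal_iInf_normal fun χ => charKernel_normal _

/-- A character of degree prime to `p` lies over a character fixed by a `p`-subgroup. -/
theorem exists_invariant_constituent (K : Subgroup G) [K.Normal] [Fintype K] {P : Subgroup G}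
    (hP : IsPGroup p P) (χ : Cfsg.IrrCharacter G) (hχ : ¬ p ∣ Cfsg.charDegree (χ : G → ℂ)) :
    ∃ θ : Cfsg.IrrCharacter K, (∀ u ∈ P, conjIrr u θ = θ) ∧
      Cfsg.classInner (fun k : K => (χ : G → ℂ) k) (θ : K → ℂ) ≠ 0 := by
  classical
  obtain ⟨M, hM⟩ := BlockCharsA.DefectZeroVanish.exists_modular (p := p) hp.out
  haveI := Fintype.ofFinite G
  haveI := Fintype.ofFinite (Cfsg.IrrCharacter K)
  have hres : Cfsg.IsCharacter K (fun k : K => (χ : G → ℂ) k) :=
    isCharacter_comp K.subtype (irr_isCharacter χ)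
  choose m hm using fun θ : Cfsg.IrrCharacter K => classInner_char_nat hres (irr_isCharacter θ)
  choose d hd hdn using fun θ : Cfsg.IrrCharacter K => irr_one_pos θ.2
  have htot : ∑ θ : Cfsg.IrrCharacter K, ((m θ * d θ : ℕ) : ℂ) =
      ((Cfsg.charDegree (χ : G → ℂ) : ℕ) : ℂ) := by
    have h := congrFun (classFun_eq_sum (char_isClassFunction hres)) 1
    simp only [Finset.sum_apply, Pi.smul_apply, smul_eq_mul, hm, hdn, OneMemClass.coe_one] at h
    rw [charDegree_cast, h]
    exact Finset.sum_congr rfl fun θ _ => Nat.cast_mul _ _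
  letI := conjAction K P
  by_contra hno
  push Not at hno
  have hinv : ∀ (u : P) (θ : Cfsg.IrrCharacter K), m (u • θ) * d (u • θ) = m θ * d θ := by
    intro u θ
    have h1 : m (u • θ) = m θ := Nat.cast_injective (R := ℂ) (by
      rw [← hm, ← hm]
      exact Clifford.classInner_restrict_conjBy K (irr_isClassFunction χ) _ _)
    have h2 : d (u • θ) = d θ := Nat.cast_injective (R := ℂ) (by
      rw [← hdn, ← hdn]
      exact Clifford.conjBy_at_one K _ _)
    rw [h1, h2]
  have e := cong_sum_fixed hM hP (fun θ : Cfsg.IrrCharacter K => ((m θ * d θ : ℕ) : ℂ))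
    (fun θ => ring_natCast hM _) (fun u θ => by simp only [hinv])
    (Finset.univ.filter fun θ => ∀ u : P, u • θ = θ) (fun θ => by simp)
  rw [htot, Finset.sum_eq_zero fun θ hθ => ?_] at e
  · exact hχ ((ideal_natCast_iff hM _).1 (cong_zero_iff.1 e))
  · have hfix : ∀ u ∈ P, conjIrr u θ = θ := fun u hu => by
      have h := (Finset.mem_filter.1 hθ).2 ⟨u⁻¹, P.inv_mem hu⟩
      change conjIrr (u⁻¹)⁻¹ θ = θ at h
      rwa [inv_inv] at h
    have h0 := hno θ hfix
    rw [hm, Nat.cast_eq_zero] at h0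
    simp [h0]

/-- Normal subgroups with trivial centralizer of a Sylow subgroup lie in the kernel. -/
theorem le_kerPPrime_of_centralizer (P : Sylow p G) (N : Subgroup G) [N.Normal]
    (hN : N ⊓ Subgroup.centralizer ((P : Subgroup G) : Set G) = ⊥) :
    (N ⊓ (P : Subgroup G) = ⊥ ∧ ¬ p ∣ Nat.card N) ∧ N ≤ kerPPrime p G := by
  classical
  haveI := Fintype.ofFinite N
  have hNP : N ⊓ (P : Subgroup G) = ⊥ := by
    rw [eq_bot_iff]
    by_contra hne
    haveI hpn : Group.IsNilpotent (P : Subgroup G) := P.isPGroup'.isNilpotent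
    set Q : Subgroup (P : Subgroup G) := N.subgroupOf (P : Subgroup G) with hQ
    haveI : Q.Normal := Subgroup.Normal.subgroupOf inferInstance _
    have hQne : Q ≠ ⊥ := fun h => hne (by
      rw [← Subgroup.subgroupOf_map_subtype, ← hQ, h, Subgroup.map_bot])
    haveI : Nontrivial Q := Q.nontrivial_iff_ne_bot.2 hQne
    obtain ⟨z, hzQ, hzc, hz1⟩ : ∃ z, z ∈ Q ∧ z ∈ Subgroup.center (P : Subgroup G) ∧ z ≠ 1 := by
      obtain ⟨n, hn⟩ := IsPGroup.iff_card.1 (P.isPGroup'.to_subgroup Q)
      have hdvd : p ∣ Nat.card Q := by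
        rcases Nat.eq_zero_or_pos n with rfl | hn0
        · exact absurd hn (by simpa using (Finite.one_lt_card (α := Q)).ne')
        · exact hn ▸ dvd_pow_self p hn0.ne'
      letI := elemAction Q (⊤ : Subgroup (P : Subgroup G))
      have h1 : (1 : Q) ∈ MulAction.fixedPoints (⊤ : Subgroup (P : Subgroup G)) Q := fun u => by
        show MulAut.conjNormal (u : (P : Subgroup G)) (1 : Q) = 1
        simp
      obtain ⟨b, hb, hb1⟩ := (P.isPGroup'.to_subgroup ⊤).exists_fixed_point_of_prime_dvd_card_of_fixed_point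
        Q hdvd h1
      refine ⟨b, b.2, Subgroup.mem_center_iff.2 fun u => ?_, fun h => hb1 (Subtype.ext h.symm)⟩
      have h2 : u * (b : (P : Subgroup G)) * u⁻¹ = b := congrArg Subtype.val (hb ⟨u, trivial⟩)
      rwa [mul_inv_eq_iff_eq_mul] at h2
    refine hz1 (Subtype.ext ((Subgroup.mem_bot).1 (hN ▸ ⟨hzQ, ?_⟩)))
    refine Subgroup.mem_centralizer_iff.2 fun u hu => ?_
    exact congrArg Subtype.val (Subgroup.mem_center_iff.1 hzc ⟨u, hu⟩)
  have hpN : ¬ p ∣ Nat.card N := by
    intro h
    have hnd := Cores.sylow_subgroupOf_isSubnormal P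
      (Subgroup.Normal.isSubnormal (inferInstance : N.Normal))
    rw [← Subgroup.relIndex, ← Subgroup.inf_relIndex_left, hNP, Subgroup.relIndex_bot_left] at hnd
    exact hnd h
  refine ⟨⟨hNP, hpN⟩, fun g hg => mem_kerPPrime.2 fun χ hχ => ?_⟩
  obtain ⟨θ, hθ, hne⟩ := exists_invariant_constituent N P.isPGroup' χ hχ
  rw [invariant_trivial P.isPGroup' hpN hN θ hθ] at hne
  exact (constituent_trivIrr_iff χ).1 hne g hg

/-- The core of `N ⊔ P'` lies in the kernel. -/
theorem core_le_kerPPrime (P : Sylow p G) (N : Subgroup G) [N.Normal]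
    (hN : N ⊓ Subgroup.centralizer ((P : Subgroup G) : Set G) = ⊥) :
    (N ⊔ ⁅(P : Subgroup G), (P : Subgroup G)⁆).normalCore ≤ kerPPrime p G := by
  classical
  obtain ⟨⟨hNP, -⟩, hNK⟩ := le_kerPPrime_of_centralizer P N hN
  set D := (P : Subgroup G) with hD
  set C := (N ⊔ ⁅D, D⁆).normalCore with hC
  haveI : C.Normal := Subgroup.normalCore_normal _
  haveI := Fintype.ofFinite G
  haveI := Fintype.ofFinite C
  intro g hg
  refine mem_kerPPrime.2 fun χ hχ => ?_
  haveI := Fintype.ofFinite D
  -- a linear constituent on the Sylow subgroup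
  obtain ⟨ψ, hψne, hψp⟩ := CrossCoprime.exists_constituent_not_dvd
    (isCharacter_comp D.subtype (irr_isCharacter χ))
    (show ((χ : G → ℂ) ∘ D.subtype) 1 = ((Cfsg.charDegree (χ : G → ℂ) : ℕ) : ℂ) by
      rw [charDegree_cast]; simp) hχ
  have hψ1 : (ψ : D → ℂ) 1 = 1 := by
    obtain ⟨k, hk, -, hdvd⟩ := irr_degree_dvd_card ψ.2
    obtain ⟨n, hn⟩ := IsPGroup.iff_card.1 P.isPGroup'
    rw [hn] at hdvd
    obtain ⟨j, -, rfl⟩ := (Nat.dvd_prime_pow hp.out).1 hdvd
    have hdeg : Cfsg.charDegree (ψ : D → ℂ) = p ^ j := Nat.cast_injective (R := ℂ) (by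
      rw [charDegree_cast]; exact hk)
    rcases Nat.eq_zero_or_pos j with rfl | hj
    · simpa using hk
    · exact absurd (hdeg ▸ dvd_pow_self p hj.ne') hψp
  set lam := linearOfDegreeOne (irr_isCharacter ψ) hψ1
  have hlam : ∀ x : D, ((lam x : ℂˣ) : ℂ) = (ψ : D → ℂ) x := fun x => by simp [lam]
  have hcomm : ∀ x ∈ (commutator D), (ψ : D → ℂ) x = 1 := fun x hx => by
    rw [← hlam, MonoidHom.mem_ker.1 (Abelianization.commutator_subset_ker lam hx), Units.val_one]
  -- the character is constant on the cosets of `N`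
  have hNker : ∀ n ∈ N, ∀ x : G, (χ : G → ℂ) (n * x) = (χ : G → ℂ) x := by
    intro n hn x
    have hk : n ∈ charKernel (χ : G → ℂ) (irr_isCharacter χ) :=
      mem_charKernel.2 (mem_kerPPrime.1 (hNK hn) χ hχ)
    exact char_mul_of_eq_one (irr_isCharacter χ) hk x
  set X : Subgroup D := (C.subgroupOf D) ⊓ commutator D with hX
  haveI := Fintype.ofFinite X
  haveI := Fintype.ofFinite N
  have hNC : N ≤ C := Subgroup.normal_le_normalCore.2 le_sup_left
  have hdec : Function.Bijective (fun q : N × X =>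
      (⟨(q.1 : G) * ((q.2 : D) : G), C.mul_mem (hNC q.1.2) q.2.2.1⟩ : C)) := by
    constructor
    · intro q q' he
      have he' : (q.1 : G) * ((q.2 : D) : G) = (q'.1 : G) * ((q'.2 : D) : G) :=
        congrArg Subtype.val he
      have hmem : (q'.1 : G)⁻¹ * (q.1 : G) ∈ N ⊓ D := by
        refine ⟨N.mul_mem (N.inv_mem q'.1.2) q.1.2, ?_⟩
        have : (q'.1 : G)⁻¹ * (q.1 : G) = ((q'.2 : D) : G) * ((q.2 : D) : G)⁻¹ := by
          rw [eq_mul_inv_iff_mul_eq, mul_assoc, he', inv_mul_cancel_left]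
        rw [SetLike.mem_coe, this]
        exact D.mul_mem (q'.2 : D).2 (D.inv_mem (q.2 : D).2)
      rw [hNP, Subgroup.mem_bot, inv_mul_eq_one] at hmem
      refine Prod.ext (Subtype.ext hmem.symm) (Subtype.ext (Subtype.ext ?_))
      rw [← hmem] at he'
      exact mul_left_cancel he'
    · intro c
      obtain ⟨a, ha, x, hx, hax⟩ := Subgroup.mem_sup_of_normal_left.1
        (Subgroup.normalCore_le _ c.2)
      rw [← Subgroup.map_subtype_commutator, Subgroup.mem_map] at hx
      obtain ⟨y, hy, rfl⟩ := hx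
      refine ⟨(⟨a, ha⟩, ⟨y, ⟨?_, hy⟩⟩), Subtype.ext hax⟩
      show (y : G) ∈ C
      have : (y : G) = a⁻¹ * (c : G) := by rw [← hax]; simp
      rw [this]
      exact C.mul_mem (hNC (N.inv_mem ha)) c.2
  have hsum : ∑ c : C, (χ : G → ℂ) c = (Nat.card N : ℂ) * ∑ x : X, (χ : G → ℂ) ((x : D) : G) := by
    rw [← Fintype.sum_bijective _ hdec (fun q : N × X => (χ : G → ℂ) ((q.2 : D) : G))
      (fun c : C => (χ : G → ℂ) c) (fun q => (hNker _ q.1.2 _).symm)]
    rw [Fintype.sum_prod_type]
    simp only [Finset.sum_const, Finset.card_univ, nsmul_eq_mul, Nat.card_eq_fintype_card]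
  have hXne : Cfsg.classInner (fun x : X => (χ : G → ℂ) ((x : D) : G)) (fun _ => (1 : ℂ)) ≠ 0 :=
    Clifford.classInner_restrict_ne_zero X (isCharacter_comp D.subtype (irr_isCharacter χ)) ψ.2
      (isCharacter_of_isIrr isIrrCharacter_one) hψne (by
        have e : (fun x : X => (ψ : D → ℂ) x) = fun _ => (1 : ℂ) :=
          funext fun x => hcomm x x.2.2
        rw [e, classInner_isIrr_self isIrrCharacter_one]
        exact one_ne_zero)
  have hCne : Cfsg.classInner (fun c : C => (χ : G → ℂ) c) (trivIrr C : C → ℂ) ≠ 0 := by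
    rw [classInner_def] at hXne ⊢
    simp only [trivIrr_coe, map_one, mul_one, mul_ne_zero_iff] at hXne ⊢
    rw [hsum]
    exact ⟨inv_ne_zero (Nat.cast_ne_zero.2 Nat.card_pos.ne'),
      mul_ne_zero (Nat.cast_ne_zero.2 Nat.card_pos.ne') hXne.2⟩
  exact (constituent_trivIrr_iff χ).1 hCne g hg

/-- The kernel meets the Sylow subgroup inside its derived subgroup. -/
theorem kerPPrime_inf_le (P : Sylow p G) :
    kerPPrime p G ⊓ (P : Subgroup G) ≤ (commutator (P : Subgroup G)).map (P : Subgroup G).subtype := by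
  classical
  haveI := Fintype.ofFinite G
  set D := (P : Subgroup G) with hD
  haveI := Fintype.ofFinite D
  rintro x ⟨hxR, hxD⟩
  refine ⟨⟨x, hxD⟩, ?_, rfl⟩
  by_contra hx
  obtain ⟨f, hf⟩ := CommGroup.exists_apply_ne_one_of_hasEnoughRootsOfUnity (Abelianization D) ℂ
    (a := Abelianization.of (⟨x, hxD⟩ : D)) (fun h => hx (by
      rwa [← MonoidHom.mem_ker, Abelianization.ker_of] at h))
  set lam : D →* ℂˣ := f.comp Abelianization.of with hlam
  set ψ : D → ℂ := fun y => (lam y : ℂ) with hψ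
  have hψc : Cfsg.IsCharacter D ψ := isCharacter_linear lam
  obtain ⟨χ, hne, hdeg⟩ := CrossCoprime.exists_constituent_not_dvd (p := p)
    (isCharacter_indFun D hψc) (n := D.index) (by rw [indFun_one]; simp [hψ]) P.not_dvd_index
  rw [classInner_conj_symm, map_ne_zero,
    frobenius_reciprocity' D ψ (irr_isClassFunction χ)] at hne
  set Y : Subgroup D := (kerPPrime p G).subgroupOf D with hY
  haveI := Fintype.ofFinite Y
  have h2 := Clifford.classInner_restrict_ne_zero Y (isCharacter_comp D.subtype (irr_isCharacter χ))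
    (isIrrCharacter_linear lam) (φ := fun y : Y => (lam y : ℂ))
    (isCharacter_linear (lam.comp Y.subtype)) hne (by
      have h1 := classInner_isIrr_self (isIrrCharacter_linear (lam.comp Y.subtype))
      simp only [MonoidHom.coe_comp, Function.comp, Subgroup.coe_subtype] at h1
      exact h1 ▸ one_ne_zero)
  have h3 : (fun y : Y => ((χ : G → ℂ) ∘ D.subtype) y) = (χ : G → ℂ) 1 • (fun _ : Y => (1 : ℂ)) := by
    funext y
    rw [Pi.smul_apply, smul_eq_mul, mul_one]
    exact mem_kerPPrime.1 y.2 χ hdeg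
  rw [h3, classInner_smul_left, mul_ne_zero_iff] at h2
  have h4 : (fun _ : Y => (1 : ℂ)) = fun y : Y => (lam y : ℂ) := by
    by_contra hne'
    exact h2.2 (classInner_isIrr_ne isIrrCharacter_one
      (isIrrCharacter_linear (lam.comp Y.subtype)) hne')
  exact hf (Units.ext (congrFun h4 ⟨⟨x, hxD⟩, hxR⟩).symm)

theorem kerPPrime_le_core (P : Sylow p G) (N : Subgroup G) [N.Normal]
    (hmax : ∀ L : Subgroup G, L.Normal →
      L ⊓ Subgroup.centralizer ((P : Subgroup G) : Set G) = ⊥ → L ≤ N) :
    kerPPrime p G ≤ (N ⊔ ⁅(P : Subgroup G), (P : Subgroup G)⁆).normalCore := by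
  classical
  haveI := Fintype.ofFinite G
  set D := (P : Subgroup G) with hD
  set R := kerPPrime p G with hR
  haveI hpn : Group.IsNilpotent D := P.isPGroup'.isNilpotent
  have hfr : R ⊓ D ≤ (frattini D).map D.subtype :=
    (kerPPrime_inf_le P).trans (Subgroup.map_mono (Coprime.commutator_le_frattini D))
  obtain ⟨N₀, hN₀, hN₀c, j, hj⟩ := Transfer.NormalPComplement.hasNormalPComplement_iff_exists.1
    (Transfer.Tate.hasNormalPComplement_of_inf_le_frattini P R hfr)
  set K := (Cfsg.pPrimeCore p R).map R.subtype with hK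
  haveI : K.Normal := by
    haveI : (Cfsg.pPrimeCore p R).Characteristic := inferInstance
    exact hK ▸ inferInstance
  have hpK : ¬ p ∣ Nat.card K := by
    rw [hK, Subgroup.card_map_of_injective R.subtype_injective]
    exact hp.out.coprime_iff_not_dvd.1 (Cores.pPrimeCore_card_coprime p).symm
  have hKR : K ≤ R := Subgroup.map_subtype_le _
  -- the complement lies in the kernel and has no invariant character
  haveI := Fintype.ofFinite K
  have hKN : K ≤ N := by
    refine hmax K inferInstance (centralizer_eq_bot P.isPGroup' fun θ hθ => ?_)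
    set H : Subgroup G := K ⊔ D with hH
    have hKH : K ≤ H := le_sup_left
    haveI := Fintype.ofFinite H
    set K' := K.subgroupOf H
    haveI : K'.Normal := Subgroup.Normal.subgroupOf inferInstance H
    set e : K' ≃* K := Subgroup.subgroupOfEquivOfLe hKH
    obtain ⟨a, ha⟩ := IsPGroup.iff_card.1 P.isPGroup'
    have hrel : ∃ b : ℕ, K.relIndex H = p ^ b := by
      have h1 : K.relIndex H ∣ Nat.card D := by
        rw [hH, Subgroup.relIndex_sup_left]
        exact Subgroup.index_dvd_card _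
      rw [ha] at h1
      obtain ⟨b, -, hb⟩ := (Nat.dvd_prime_pow hp.out).1 h1
      exact ⟨b, hb⟩
    obtain ⟨b, hb⟩ := hrel
    have hcop : (K'.relIndex (⊤ : Subgroup H)).Coprime (Nat.card K') := by
      rw [Subgroup.relIndex_top_right, show K'.index = K.relIndex H from rfl, hb,
        Nat.card_congr e.toEquiv]
      exact ((hp.out.coprime_iff_not_dvd).2 hpK).pow_left b
    have hinvH : ∀ h ∈ H, conjIrr h θ = θ := by
      intro h hh
      obtain ⟨k, hk, u, hu, rfl⟩ := Subgroup.mem_sup_of_normal_left.1 hh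
      rw [← conjIrr_conjIrr, show conjIrr k θ = θ from Subtype.ext (funext fun x => by
        rw [coe_conjIrr, Clifford.conjBy_apply]
        exact irr_isClassFunction θ x ⟨k, hk⟩), hθ u hu]
    obtain ⟨φ, hφ, hφK, -⟩ := RegularSupport.exists_invariant_extension (⊤ : Subgroup H) K'
      le_top hcop ((isIrrCharacter_comp_mulEquiv e).2 θ.2) (fun h => by
        funext m
        have h1 := congrFun (congrArg Subtype.val (hinvH h h.2)) (e m)
        rw [coe_conjIrr, Clifford.conjBy_apply] at h1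
        rw [Clifford.conjBy_apply]
        exact (congrArg (θ : K → ℂ) (Subtype.ext rfl)).trans h1)
    set η : H → ℂ := φ ∘ (Subgroup.topEquiv (G := H)).symm with hη
    have hηi : Cfsg.IsIrrCharacter H η :=
      (isIrrCharacter_comp_mulEquiv (Subgroup.topEquiv (G := H)).symm).2 hφ
    have hηK : ∀ k : K', η k = ((θ : K → ℂ) ∘ e) k := fun k =>
      (congrArg φ (Subtype.ext rfl)).trans (hφK k)
    obtain ⟨d, hd, hdpos, hdvd⟩ := irr_degree_dvd_card θ.2
    have hη1 : η 1 = (d : ℂ) := by
      rw [← hd]; exact (hηK 1).trans (congrArg (θ : K → ℂ) (map_one e))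
    have hpd : ¬ p ∣ H.index * d := by
      rw [hp.out.dvd_mul]
      rintro (h | h)
      · exact P.not_dvd_index (h.trans (Subgroup.index_dvd_of_le le_sup_right))
      · exact hpK (h.trans hdvd)
    obtain ⟨χ, hne, hdeg⟩ := CrossCoprime.exists_constituent_not_dvd
      (isCharacter_indFun H (isCharacter_of_isIrr hηi)) (n := H.index * d)
      (by rw [indFun_one, hη1, Nat.cast_mul]) hpd
    rw [classInner_conj_symm, map_ne_zero,
      frobenius_reciprocity' H η (irr_isClassFunction χ)] at hne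
    haveI := Fintype.ofFinite K'
    have h2 := Clifford.classInner_restrict_ne_zero K'
      (isCharacter_comp H.subtype (irr_isCharacter χ)) hηi (φ := (θ : K → ℂ) ∘ e)
      (isCharacter_comp e.toMonoidHom (irr_isCharacter θ)) hne (by
        rw [show (fun n : K' => η n) = (θ : K → ℂ) ∘ e from funext hηK,
          classInner_isIrr_self ((isIrrCharacter_comp_mulEquiv e).2 θ.2)]
        exact one_ne_zero)
    rw [show (fun n : K' => ((χ : G → ℂ) ∘ H.subtype) n) = (χ : G → ℂ) 1 • fun _ : K' => (1 : ℂ) from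
      funext fun k => by
        rw [Pi.smul_apply, smul_eq_mul, mul_one]
        exact mem_kerPPrime.1 (hKR k.2) χ hdeg, classInner_smul_left, mul_ne_zero_iff] at h2
    have h4 : (fun _ : K' => (1 : ℂ)) = (θ : K → ℂ) ∘ e := by
      by_contra hne'
      exact h2.2 (classInner_isIrr_ne isIrrCharacter_one
        ((isIrrCharacter_comp_mulEquiv e).2 θ.2) hne')
    refine Subtype.ext (funext fun k => ?_)
    have h5 := congrFun h4 (e.symm k)
    rw [Function.comp, e.apply_symm_apply] at h5
    rw [trivIrr_coe]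
    exact h5.symm
  -- the kernel is the product of the complement and its part of the Sylow subgroup
  refine Subgroup.normal_le_normalCore.2 ?_
  have hRle : R ≤ K ⊔ (R ⊓ D) := by
    set K₀ := Cfsg.pPrimeCore p R
    set Q : Subgroup R := D.subgroupOf R
    have hidx : ∃ i, K₀.index = p ^ i := by
      obtain ⟨i, -, hi⟩ := (Nat.dvd_prime_pow hp.out).1
        (hj ▸ Subgroup.index_dvd_of_le (Cores.le_pPrimeCore hN₀c) : K₀.index ∣ p ^ j)
      exact ⟨i, hi⟩
    obtain ⟨i, hi⟩ := hidx
    have htop : K₀ ⊔ Q = ⊤ := by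
      rw [← Subgroup.index_eq_one]
      have h1 : (K₀ ⊔ Q).index ∣ p ^ i := hi ▸ Subgroup.index_dvd_of_le le_sup_left
      have h2 : ¬ p ∣ (K₀ ⊔ Q).index := fun h =>
        Cores.sylow_subgroupOf_isSubnormal P
          (Subgroup.Normal.isSubnormal (inferInstance : R.Normal))
          (h.trans (Subgroup.index_dvd_of_le le_sup_right))
      obtain ⟨l, -, hl⟩ := (Nat.dvd_prime_pow hp.out).1 h1
      rcases Nat.eq_zero_or_pos l with rfl | hl0
      · simpa using hl
      · exact absurd (hl ▸ dvd_pow_self p hl0.ne') h2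
    intro r hr
    have hr' : (⟨r, hr⟩ : R) ∈ K₀ ⊔ Q := htop ▸ Subgroup.mem_top _
    obtain ⟨k, hk, q, hq, hkq⟩ := Subgroup.mem_sup_of_normal_left.1 hr'
    rw [show r = (k : G) * (q : G) from (congrArg Subtype.val hkq).symm]
    exact Subgroup.mul_mem_sup (Subgroup.mem_map_of_mem _ hk) ⟨q.2, hq⟩
  refine hRle.trans (sup_le (hKN.trans le_sup_left) ?_)
  refine (kerPPrime_inf_le P).trans (le_of_eq_of_le ?_ le_sup_right)
  exact Subgroup.map_subtype_commutator D

end Cfsg.Agent.CharTheory.KernelCore
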